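import Cfsg.Agent.H700.F43.MdlI

/-!
# The products of two orthogonal long root elements (S2464, F₄(3), box T7 (1) of helper92; helper38)

`u4` : `x_25(a) x_47(d)`, `a ≠ 0`, is conjugate to an element of `Q` outside `Z`.
-/

set_option autoImplicit false

namespace Cfsg.Agent.H38.RB

open Cfsg Cfsg.Lie Cfsg.Agent.H700.F43 Cfsg.Agent.H750.F43 Cfsg.Agent.H78.Pw
open Cfsg.Agent.KFacts.RgdChevCoord Cfsg.Agent.H537.Pw Cfsg.Agent.ChevalleyStructure.Elts

/-- the reflection in the root `24` -/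
noncomputable def nn : G3 := wd [(24, true), (23, false), (24, true)]

theorem n25 : nn * xp 25 = xp 26 * nn := by
  have h : chkE ([(24, true), (23, false), (24, true)] ++ [(25, true)])
      ([(26, true)] ++ [(24, true), (23, false), (24, true)]) = true := by decide +kernel
  have := word_eq h
  rwa [wd_append, wd_append, wd_single, wd_single] at this

theorem n47 : nn * xp 47 = xr (46, false) * nn := by
  have h : chkE ([(24, true), (23, false), (24, true)] ++ [(47, true)])
      ([(46, false)] ++ [(24, true), (23, false), (24, true)]) = true := by decide +kernel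
  have := word_eq h
  rwa [wd_append, wd_append, wd_single, wd_single] at this

theorem c25 : nn * xp 25 * nn⁻¹ = xp 26 := by rw [n25, mul_inv_cancel_right]

theorem c47 : nn * xp 47 * nn⁻¹ = xp 46 * xp 46 := by
  rw [n47, mul_inv_cancel_right, xr_false (by norm_num)]

theorem m26 : xp 26 ∈ QQ := xp_mem (by decide)
theorem m46 : xp 46 ∈ QQ := xp_mem (by decide)

theorem k26 : kap (xp 26) = (Pi.single (3 : Fin 14) (eta 3) : V14) := kap_xp 3
theorem k46 : kap (xp 46) = (Pi.single (13 : Fin 14) (eta 13) : V14) := kap_xp 13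

theorem xc_add' (v : Fin 4 → ℤ) (a b : F3) : xc isType_F4 v (a + b) = xc isType_F4 v a * xc isType_F4 v b :=
  Subtype.ext (xG_add isType_F4.inList _ a b).symm

theorem xc_zero' (v : Fin 4 → ℤ) : xc isType_F4 v (0 : F3) = 1 := by
  have := xc_add' v (0 : F3) 0
  rw [add_zero] at this
  exact mul_eq_left.1 this.symm

/-- powers of root elements -/
theorem xc_pow (v : Fin 4 → ℤ) (n : ℕ) : xc isType_F4 v (n : F3) = xc isType_F4 v (1 : F3) ^ n := by
  induction n with
  | zero => rw [Nat.cast_zero, xc_zero', pow_zero]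
  | succ n ih => rw [Nat.cast_succ, xc_add', ih, pow_succ]

theorem xa_pow (a : F3) : xa a = xp 25 ^ a.val := by
  have h := xc_pow (Cfsg.Agent.Nodes.RGDChev.vec chevF4 4 25) a.val
  rw [ZMod.natCast_zmod_val] at h
  exact h

theorem xt_pow (a : F3) : xt a = xp 47 ^ a.val := by
  have h := xc_pow (Cfsg.Agent.Nodes.RGDChev.vec chevF4 4 47) a.val
  rw [ZMod.natCast_zmod_val] at h
  exact h

theorem kap_pow {g : Gm} (hg : g ∈ QQ) (n : ℕ) : kap (g ^ n) = (n : F3) • kap g := by
  induction n with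
  | zero => rw [pow_zero, kap_one, Nat.cast_zero, zero_smul]
  | succ n ih => rw [pow_succ, kap_mul (pow_mem hg n) hg, ih, Nat.cast_succ, add_smul, one_smul]

theorem m47 : xp 47 ∈ QQ := Subgroup.mem_subgroupOf.1 dat.xs.mem

/-- elements of `Z` have coordinates zero -/
theorem kap_zz {g : G3} (hg : g ∈ Subgroup.zpowers (zz : G3)) : kap g = 0 := by
  have h1 : g ∈ Submonoid.powers (zz : G3) := mem_powers_iff_mem_zpowers.2 hg
  obtain ⟨n, rfl⟩ := h1
  show kap ((xp 47) ^ n) = 0
  rw [kap_pow m47, dat.k47, smul_zero]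

/-- **Box T7 (1).** -/
theorem u4 (a d : F3) (ha : a ≠ 0) :
    ∃ (x : G3) (q : G3), q ∈ QQ ∧ q ∉ Subgroup.zpowers (zz : G3) ∧ x * (xa a * xt d) * x⁻¹ = q := by
  have h1 : nn * (xa a * xt d) * nn⁻¹ = (xp 26) ^ a.val * (xp 46 * xp 46) ^ d.val := by
    rw [xa_pow, xt_pow]
    have e : nn * (xp 25 ^ a.val * xp 47 ^ d.val) * nn⁻¹ =
        (nn * xp 25 ^ a.val * nn⁻¹) * (nn * xp 47 ^ d.val * nn⁻¹) := by group
    rw [e, ← conj_pow, ← conj_pow, c25, c47]
  refine ⟨nn, _, mul_mem (pow_mem m26 _) (pow_mem (mul_mem m46 m46) _), fun hz => ?_, h1⟩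
  have h2 := kap_zz hz
  rw [kap_mul (pow_mem m26 _) (pow_mem (mul_mem m46 m46) _), kap_pow m26, kap_pow (mul_mem m46 m46), kap_mul m46 m46,
    k26, k46] at h2
  have h3 := congrFun h2 3
  simp only [Pi.add_apply, Pi.smul_apply, Pi.zero_apply, smul_eq_mul] at h3
  rw [Pi.single_eq_same, Pi.single_eq_of_ne (by decide), add_zero, mul_zero, add_zero, ZMod.natCast_zmod_val] at h3
  have key : ∀ b : F3, b ≠ 0 → b * eta 3 ≠ 0 := by decide
  exact key a ha h3

end Cfsg.Agent.H38.RB
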